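import Mathlib.AlgebraicGeometry.Morphisms.Integral
import Mathlib.AlgebraicGeometry.Morphisms.Affine
import Mathlib.AlgebraicGeometry.Morphisms.Proper
import Mathlib.AlgebraicGeometry.Morphisms.UniversallyInjective
import Groth.Prelude.Def_Flat

/-!
# Universal homeomorphisms

Basic characterisations of `FlatMor.IsUnivHomeo`.
-/

universe u

open CategoryTheory CategoryTheory.Limits AlgebraicGeometry

namespace Groth.Agent.FlatBasics

theorem isUnivHomeo_iff {X Y : Scheme.{u}} (f : X ⟶ Y) :
    FlatMor.IsUnivHomeo f ↔ UniversallyClosed f ∧ UniversallyInjective f ∧ Surjective f := by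
  constructor
  · intro h
    refine ⟨⟨fun X' Y' i₁ i₂ f' H ↦ ?_⟩, ⟨fun X' Y' i₁ i₂ f' H ↦ ?_⟩, ⟨?_⟩⟩
    · exact (isHomeomorph_iff_continuous_isClosedMap_bijective.mp (h i₁ i₂ f' H)).2.1
    · exact (h i₁ i₂ f' H).injective
    · exact (h _ _ _ IsPullback.of_id_snd).surjective
  · rintro ⟨h₁, h₂, h₃⟩ X' Y' i₁ i₂ f' H
    have : Surjective f' := MorphismProperty.of_isPullback (P := @Surjective) H.flip h₃
    have : UniversallyInjective f' :=
      MorphismProperty.of_isPullback (P := @UniversallyInjective) H.flip h₂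
    have : UniversallyClosed f' :=
      MorphismProperty.of_isPullback (P := @UniversallyClosed) H.flip h₁
    exact isHomeomorph_iff_continuous_isClosedMap_bijective.mpr
      ⟨f'.continuous, f'.isClosedMap, f'.injective, f'.surjective⟩

theorem isHomeomorph_of_isUnivHomeo {X Y : Scheme.{u}} {f : X ⟶ Y}
    (h : FlatMor.IsUnivHomeo f) : IsHomeomorph f :=
  h _ _ _ IsPullback.of_id_snd

theorem isAffineHom_of_isUnivHomeo {X Y : Scheme.{u}} {f : X ⟶ Y}
    (h : FlatMor.IsUnivHomeo f) : IsAffineHom f :=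
  have h' := isHomeomorph_of_isUnivHomeo h
  isAffineHom_of_isInducing f h'.isInducing h'.isClosedEmbedding.isClosed_range

theorem isIntegralHom_of_isUnivHomeo {X Y : Scheme.{u}} {f : X ⟶ Y}
    (h : FlatMor.IsUnivHomeo f) : IsIntegralHom f :=
  IsIntegralHom.iff_universallyClosed_and_isAffineHom.mpr
    ⟨((isUnivHomeo_iff f).mp h).1, isAffineHom_of_isUnivHomeo h⟩

theorem isUnivHomeo_of {X Y : Scheme.{u}} {f : X ⟶ Y} [UniversallyClosed f]
    [UniversallyInjective f] [Surjective f] : FlatMor.IsUnivHomeo f :=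
  (isUnivHomeo_iff f).mpr ⟨inferInstance, inferInstance, inferInstance⟩

theorem universallyInjective_of_comp {X Y Z : Scheme.{u}} (f : X ⟶ Y) (g : Y ⟶ Z)
    [UniversallyInjective (f ≫ g)] : UniversallyInjective f := by
  have h := ((tfae_universallyInjective (f ≫ g)).out 0 1).mp ‹_›
  refine ((tfae_universallyInjective f).out 0 1).mpr ?_
  intro K inst a b hab
  exact h K (by simpa [Category.assoc] using congrArg (· ≫ g) hab)

theorem universallyInjective_of_comp_surjective {X Y Z : Scheme.{u}} (f : X ⟶ Y) (g : Y ⟶ Z)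
    [UniversallyInjective (f ≫ g)] [Surjective f] : UniversallyInjective g := by
  constructor
  intro X' Y' i₁ i₂ f' H
  have h := UniversallyInjective.universally_injective _ _ _
    ((IsPullback.of_hasPullback i₁ f).paste_horiz H)
  exact Function.Injective.of_comp_right h
    (MorphismProperty.pullback_fst (P := @Surjective) _ _ ‹_›).1

theorem surjective_of_comp_injective {X Y Z : Scheme.{u}} (f : X ⟶ Y) (g : Y ⟶ Z)
    [Surjective (f ≫ g)] (hg : Function.Injective g) : Surjective f := by
  refine ⟨fun y ↦ ?_⟩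
  obtain ⟨x, hx⟩ := (f ≫ g).surjective (g y)
  exact ⟨x, hg hx⟩

end Groth.Agent.FlatBasics
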