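import Mathlib.AlgebraicGeometry.Morphisms.Proper
import Mathlib.AlgebraicGeometry.Morphisms.QuasiSeparated
import Mathlib.AlgebraicGeometry.Morphisms.UniversallyOpen
import Groth.Agent.FlatBasics.UnivHomeo
import Groth.Prelude.Def_MoreMor

/-!
# Cancellation along thickenings
-/

universe u

open CategoryTheory CategoryTheory.Limits AlgebraicGeometry

namespace Groth.Agent.FlatBasics

variable {X Y Z : Scheme.{u}}

theorem quasiCompact_of_comp_surjective (f : X ⟶ Y) (g : Y ⟶ Z) [QuasiCompact (f ≫ g)]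
    [Surjective f] : QuasiCompact g := by
  refine ⟨fun U hU hc ↦ ?_⟩
  have := ((f ≫ g).isCompact_preimage (U := ⟨U, hU⟩) hc).image f.continuous
  simpa [Set.preimage_comp, f.surjective.image_preimage, Function.comp_def] using this

theorem quasiSeparated_of_comp_surjective (f : X ⟶ Y) (g : Y ⟶ Z) [QuasiSeparated (f ≫ g)]
    [QuasiCompact f] [Surjective f] : QuasiSeparated g := by
  have hm : QuasiCompact (pullback.map (f ≫ g) (f ≫ g) g g f f (𝟙 Z) (by simp) (by simp)) :=
    MorphismProperty.pullbackMap (P := @QuasiCompact) (f := f ≫ g) (g := f ≫ g) (f' := g)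
      (g' := g) ‹QuasiCompact f› ‹QuasiCompact f› rfl rfl
  have heq : f ≫ pullback.diagonal g = pullback.diagonal (f ≫ g) ≫
      pullback.map (f ≫ g) (f ≫ g) g g f f (𝟙 Z) (by simp) (by simp) := by
    apply pullback.hom_ext
    · simp only [Category.assoc, pullback.map, pullback.lift_fst, pullback.diagonal_fst_assoc,
        pullback.diagonal_fst, Category.comp_id]
    · simp only [Category.assoc, pullback.map, pullback.lift_snd, pullback.diagonal_snd_assoc,
        pullback.diagonal_snd, Category.comp_id]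
  have : QuasiCompact (f ≫ pullback.diagonal g) := by rw [heq]; infer_instance
  exact ⟨quasiCompact_of_comp_surjective f _⟩

theorem universallyOpen_of_comp_surjective (f : X ⟶ Y) (g : Y ⟶ Z)
    [UniversallyOpen (f ≫ g)] [Surjective f] : UniversallyOpen g := by
  constructor
  intro X' Y' i₁ i₂ f' H U hU
  have h := UniversallyOpen.out _ _ _ ((IsPullback.of_hasPullback i₁ f).paste_horiz H)
  have hs : Function.Surjective (pullback.fst i₁ f) :=
    (MorphismProperty.pullback_fst (P := @Surjective) _ _ ‹_›).1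
  have := h _ (hU.preimage (pullback.fst i₁ f).continuous)
  simpa [Set.image_comp, hs.image_preimage, Function.comp_def, ← Set.image_image] using this

theorem isPullback_comp_mono {X' Y' : Scheme.{u}} {f : X ⟶ Y} {i : Y ⟶ Z} [Mono i]
    {i₁ : X' ⟶ X} {i₂ : Y' ⟶ Y} {f' : X' ⟶ Y'} (H : IsPullback f' i₁ i₂ f) :
    IsPullback f' i₁ (i₂ ≫ i) (f ≫ i) := by
  refine IsPullback.of_isLimit (c := PullbackCone.mk f' i₁ (by rw [H.w_assoc])) ?_
  refine PullbackCone.IsLimit.mk _
    (fun s ↦ H.lift s.fst s.snd ((cancel_mono i).mp (by simpa using s.condition)))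
    (fun s ↦ H.lift_fst _ _ _) (fun s ↦ H.lift_snd _ _ _) (fun s m h₁ h₂ ↦ ?_)
  apply H.hom_ext <;> simp [h₁, h₂]

theorem universallyOpen_of_comp_mono (f : X ⟶ Y) (g : Y ⟶ Z) [UniversallyOpen (f ≫ g)]
    [Mono g] : UniversallyOpen f :=
  ⟨fun _ _ _ _ _ H ↦ UniversallyOpen.out _ _ _ (isPullback_comp_mono (i := g) H)⟩

theorem isUnivHomeo_of_isThickening {i : X ⟶ Y} (h : MoreMor.IsThickening i) :
    FlatMor.IsUnivHomeo i := by
  obtain ⟨_, _⟩ := h
  exact isUnivHomeo_of

theorem universallyOpen_of_isUnivHomeo {i : X ⟶ Y} (h : FlatMor.IsUnivHomeo i) :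
    UniversallyOpen i :=
  ⟨fun _ _ _ _ _ H ↦ (h _ _ _ H).isOpenMap⟩

end Groth.Agent.FlatBasics
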