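import Mathlib.RingTheory.Kaehler.TensorProduct
import Mathlib.RingTheory.FiniteType
import Mathlib.RingTheory.Nakayama
import Mathlib.RingTheory.Unramified.Basic
import Mathlib.LinearAlgebra.TensorProduct.Quotient
import Mathlib.RingTheory.Jacobson.Ideal
import Mathlib.RingTheory.RingHom.FiniteType
import Mathlib.RingTheory.RingHom.Unramified

/-!
# Algebra along nil quotients of the base
-/

universe u

open TensorProduct

namespace Groth.Agent.FlatBasics

theorem smul_top_eq_top_of_subsingleton_tensor {R R₀ N : Type u} [CommRing R] [CommRing R₀]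
    [Algebra R R₀] (hπ : Function.Surjective (algebraMap R R₀)) [AddCommGroup N] [Module R N]
    (h : Subsingleton (R₀ ⊗[R] N)) :
    RingHom.ker (algebraMap R R₀) • (⊤ : Submodule R N) = ⊤ := by
  let e : (R ⧸ RingHom.ker (algebraMap R R₀)) ≃ₗ[R] R₀ :=
    (Submodule.quotEquivOfEq _ _ (by ext; rfl)).trans
      ((Algebra.linearMap R R₀).quotKerEquivOfSurjective hπ)
  have h1 : Subsingleton ((R ⧸ RingHom.ker (algebraMap R R₀)) ⊗[R] N) :=
    (e.rTensor N).toEquiv.subsingleton
  have h2 := (TensorProduct.quotTensorEquivQuotSMul N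
    (RingHom.ker (algebraMap R R₀))).symm.toEquiv.subsingleton
  exact Submodule.Quotient.subsingleton_iff.mp h2

theorem eq_top_of_sup_smul_top_of_isNilpotent {R M : Type u} [CommRing R] [AddCommGroup M]
    [Module R M] {I : Ideal R} (hI : IsNilpotent I) {A : Submodule R M}
    (h : A ⊔ I • ⊤ = ⊤) : A = ⊤ := by
  have key : ∀ n : ℕ, A ⊔ I ^ n • ⊤ = ⊤ := by
    intro n
    induction n with
    | zero => simp
    | succ n ih =>
      rw [eq_top_iff]
      conv_lhs => rw [← h]
      rw [sup_le_iff]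
      refine ⟨le_sup_left, ?_⟩
      conv_lhs => rw [← ih, Submodule.smul_sup, ← Submodule.smul_assoc, smul_eq_mul, ← pow_succ']
      exact sup_le_sup (Submodule.smul_le_right (I := I) (N := A)) le_rfl
  obtain ⟨n, hn⟩ := hI
  simpa [hn] using key n

theorem formallyUnramified_of_isPushout {R R₀ S S₀ : Type u} [CommRing R] [CommRing R₀]
    [CommRing S] [CommRing S₀] [Algebra R R₀] [Algebra R S] [Algebra R₀ S₀] [Algebra S S₀]
    [Algebra R S₀] [IsScalarTower R R₀ S₀] [IsScalarTower R S S₀]
    [Algebra.IsPushout R R₀ S S₀] (hπ : Function.Surjective (algebraMap R R₀))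
    [Algebra.FormallyUnramified R₀ S₀]
    (hI : (Module.Finite S Ω[S⁄R] ∧ RingHom.ker (algebraMap R R₀) ≤ nilradical R) ∨
      IsNilpotent (RingHom.ker (algebraMap R R₀))) :
    Algebra.FormallyUnramified R S := by
  have h0 : Subsingleton (R₀ ⊗[R] Ω[S⁄R]) :=
    (KaehlerDifferential.isBaseChange R R₀ S S₀).equiv.toEquiv.subsingleton
  have htop := smul_top_eq_top_of_subsingleton_tensor hπ h0
  refine ⟨?_⟩
  rcases hI with ⟨hfin, hle⟩ | hnil
  · have htop' : RingHom.ker (algebraMap R R₀) • (⊤ : Submodule R Ω[S⁄R]) =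
        ((RingHom.ker (algebraMap R R₀)).map (algebraMap R S) •
          (⊤ : Submodule S Ω[S⁄R])).restrictScalars R := by
      rw [Ideal.smul_restrictScalars, Submodule.restrictScalars_top]
    rw [htop] at htop'
    have hS : (RingHom.ker (algebraMap R R₀)).map (algebraMap R S) •
        (⊤ : Submodule S Ω[S⁄R]) = ⊤ := by
      rw [eq_top_iff]
      intro x _
      have : x ∈ (⊤ : Submodule R Ω[S⁄R]) := trivial
      rw [htop'] at this
      exact this
    have hle' : (RingHom.ker (algebraMap R R₀)).map (algebraMap R S) ≤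
        Ideal.jacobson ⊥ := by
      rw [Ideal.map_le_iff_le_comap]
      intro r hr
      exact Ideal.radical_le_jacobson (I := (⊥ : Ideal S))
        (IsNilpotent.map (mem_nilradical.mp (hle hr)) (algebraMap R S))
    have := Submodule.eq_bot_of_le_smul_of_le_jacobson_bot _ (⊤ : Submodule S Ω[S⁄R])
      hfin.fg_top hS.ge hle'
    exact ⟨fun a b ↦ by
        have ha : a ∈ (⊥ : Submodule S Ω[S⁄R]) := this ▸ trivial
        have hb : b ∈ (⊥ : Submodule S Ω[S⁄R]) := this ▸ trivial
        rw [(Submodule.mem_bot S).mp ha, (Submodule.mem_bot S).mp hb]⟩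
  · have := eq_top_of_sup_smul_top_of_isNilpotent hnil (A := (⊥ : Submodule R Ω[S⁄R]))
      (by rw [bot_sup_eq]; exact htop)
    exact ⟨fun a b ↦ by
      have ha : a ∈ (⊥ : Submodule R Ω[S⁄R]) := this ▸ trivial
      have hb : b ∈ (⊥ : Submodule R Ω[S⁄R]) := this ▸ trivial
      rw [(Submodule.mem_bot R).mp ha, (Submodule.mem_bot R).mp hb]⟩

theorem finiteType_of_isNilpotent {R S : Type u} [CommRing R] [CommRing S] [Algebra R S]
    {I : Ideal R} (hI : IsNilpotent I) (h : Algebra.FiniteType R (S ⧸ I.map (algebraMap R S))) :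
    Algebra.FiniteType R S := by
  classical
  obtain ⟨s, hs⟩ := h.out
  choose g hg using fun x : S ⧸ I.map (algebraMap R S) ↦
    Ideal.Quotient.mk_surjective (I := I.map (algebraMap R S)) x
  refine ⟨⟨s.image g, ?_⟩⟩
  rw [← Algebra.toSubmodule_eq_top]
  refine eq_top_of_sup_smul_top_of_isNilpotent hI ?_
  rw [eq_top_iff]
  intro x _
  have : Ideal.Quotient.mk (I.map (algebraMap R S)) x ∈
      (Algebra.adjoin R (↑(s.image g) : Set S)).map (Ideal.Quotient.mkₐ R _) := by
    rw [AlgHom.map_adjoin]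
    have : Ideal.Quotient.mkₐ R (I.map (algebraMap R S)) '' (↑(s.image g) : Set S) = ↑s := by
      ext y
      simp [hg]
    rw [this, hs]
    trivial
  obtain ⟨a, ha, hax⟩ := this
  refine Submodule.mem_sup.mpr ⟨a, ha, x - a, ?_, by ring⟩
  rw [Ideal.smul_top_eq_map, Submodule.restrictScalars_mem]
  exact Ideal.Quotient.eq.mp hax.symm

end Groth.Agent.FlatBasics
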