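import Mathlib.AlgebraicGeometry.Morphisms.Flat
import Mathlib.AlgebraicGeometry.Morphisms.FormallyUnramified
import Mathlib.AlgebraicGeometry.IdealSheaf.Functorial
import Mathlib.AlgebraicGeometry.ZariskisMainTheorem
import Groth.Agent.FlatBasics.DeformAlg
import Groth.Agent.FlatBasics.Thickening
import Groth.Agent.FpqcDescent.IdealComap

/-!
# Deformation along thickenings
-/

universe u

open CategoryTheory CategoryTheory.Limits AlgebraicGeometry

namespace Groth.Agent.FlatBasics

variable {X X' Y Y' : Scheme.{u}} {iX : X ⟶ X'} {iY : Y ⟶ Y'} {f : X ⟶ Y} {f' : X' ⟶ Y'}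

theorem isPushout_app [IsClosedImmersion iY] (hc : IsPullback iX f f' iY) {U : Y'.Opens}
    (hU : IsAffineOpen U) {V : X'.Opens} (hV : IsAffineOpen V) (e : V ≤ f' ⁻¹ᵁ U) :
    ∃ e₀ : iX ⁻¹ᵁ V ≤ f ⁻¹ᵁ (iY ⁻¹ᵁ U),
      IsPushout (f'.appLE U V e) (iY.app U) (iX.app V) (f.appLE (iY ⁻¹ᵁ U) (iX ⁻¹ᵁ V) e₀) := by
  have h1 : f ⁻¹ᵁ (iY ⁻¹ᵁ U) = iX ⁻¹ᵁ (f' ⁻¹ᵁ U) := by
    rw [← Scheme.Hom.comp_preimage, ← Scheme.Hom.comp_preimage, hc.w]
  have e₀ : iX ⁻¹ᵁ V ≤ f ⁻¹ᵁ (iY ⁻¹ᵁ U) := h1 ▸ iX.preimage_mono e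
  have hUY : iX ⁻¹ᵁ V = iX ⁻¹ᵁ V ⊓ f ⁻¹ᵁ (iY ⁻¹ᵁ U) := (inf_eq_left.mpr e₀).symm
  have := isIso_pushoutSection_of_isAffineOpen hc (US := U) (UT := iY ⁻¹ᵁ U) (UX := V)
    le_rfl e hUY hU (hU.preimage iY) hV
  have h := (isIso_pushoutSection_iff hc (US := U) (UT := iY ⁻¹ᵁ U) (UX := V)
    le_rfl e hUY).mp this
  refine ⟨e₀, ?_⟩
  simpa [Scheme.Hom.app_eq_appLE] using h

theorem ker_app_le_nilradical (iY : Y ⟶ Y') [Surjective iY] {U : Y'.Opens}
    (hU : IsAffineOpen U) : RingHom.ker (iY.app U).hom ≤ nilradical _ := by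
  intro r hr
  rw [mem_nilradical, Scheme.isNilpotent_iff_basicOpen_eq_bot_of_isCompact hU.isCompact]
  rw [RingHom.mem_ker] at hr
  have h := Scheme.preimage_basicOpen iY r
  rw [hr, Scheme.basicOpen_zero] at h
  ext y
  simp only [TopologicalSpace.Opens.coe_bot, Set.mem_empty_iff_false, iff_false,
    SetLike.mem_coe]
  intro hy
  obtain ⟨x, rfl⟩ := iY.surjective y
  have : x ∈ iY ⁻¹ᵁ Y'.basicOpen r := hy
  rw [h] at this
  exact this

theorem isNilpotent_ker_app (iY : Y ⟶ Y') [QuasiCompact iY] (h : IsNilpotent iY.ker) {U : Y'.Opens}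
    (hU : IsAffineOpen U) : IsNilpotent (RingHom.ker (iY.app U).hom) := by
  obtain ⟨n, hn⟩ := h
  refine ⟨n, ?_⟩
  rw [← iY.ker_apply ⟨U, hU⟩]
  have := congrArg (fun K : Y'.IdealSheafData ↦ K.ideal ⟨U, hU⟩) hn
  simpa using this

theorem formallyUnramified_hom_of_isPushout {R R₀ S S₀ : CommRingCat.{u}} {φ : R ⟶ S}
    {π : R ⟶ R₀} {q : S ⟶ S₀} {ψ : R₀ ⟶ S₀} (h : IsPushout φ π q ψ)
    (hπ : Function.Surjective π.hom) (hψ : ψ.hom.FormallyUnramified)
    (hI : (φ.hom.FiniteType ∧ RingHom.ker π.hom ≤ nilradical R) ∨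
      IsNilpotent (RingHom.ker π.hom)) : φ.hom.FormallyUnramified := by
  algebraize [φ.hom, π.hom, q.hom, ψ.hom, q.hom.comp φ.hom]
  have hw : q.hom.comp φ.hom = ψ.hom.comp π.hom := congrArg CommRingCat.Hom.hom h.w
  have : IsScalarTower R R₀ S₀ := IsScalarTower.of_algebraMap_eq' hw
  have : Algebra.IsPushout R R₀ S S₀ := CommRingCat.isPushout_iff_isPushout.mp h.flip
  refine formallyUnramified_of_isPushout (R₀ := R₀) (S₀ := S₀) hπ ?_
  rcases hI with ⟨hft, hle⟩ | hnil
  · have : Algebra.FiniteType R S := hft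
    exact Or.inl ⟨inferInstance, hle⟩
  · exact Or.inr hnil

theorem finiteType_hom_of_isPushout {R R₀ S S₀ : CommRingCat.{u}} {φ : R ⟶ S}
    {π : R ⟶ R₀} {q : S ⟶ S₀} {ψ : R₀ ⟶ S₀} (h : IsPushout φ π q ψ)
    (hπ : Function.Surjective π.hom) (hψ : ψ.hom.FiniteType)
    (hqs : Function.Surjective q.hom)
    (hI : IsNilpotent (RingHom.ker π.hom)) : φ.hom.FiniteType := by
  have hq := Groth.Agent.FpqcDescent.ker_eq_map_of_isPushout h hπ
  have hw : q.hom.comp φ.hom = ψ.hom.comp π.hom := congrArg CommRingCat.Hom.hom h.w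
  have hft : (q.hom.comp φ.hom).FiniteType := by
    rw [hw]; exact hψ.comp (RingHom.FiniteType.of_surjective π.hom hπ)
  let e := (Ideal.quotEquivOfEq hq.symm).trans (RingHom.quotientKerEquivOfSurjective hqs)
  algebraize [φ.hom]
  refine finiteType_of_isNilpotent hI ?_
  have : (e.symm.toRingHom.comp (q.hom.comp φ.hom)).FiniteType :=
    (RingHom.FiniteType.of_surjective _ e.symm.surjective).comp hft
  have heq : e.symm.toRingHom.comp (q.hom.comp φ.hom) =
      algebraMap R (S ⧸ (RingHom.ker π.hom).map (algebraMap R S)) := by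
    ext r
    apply e.injective
    simp [e]
    rfl
  rw [heq] at this
  exact RingHom.finiteType_algebraMap.mp this

/-- A morphism is formally unramified if its base change to a thickening of the base is, provided
either it is locally of finite type or the thickening has nilpotent ideal. -/
theorem formallyUnramified_of_thickening [IsClosedImmersion iY] [Surjective iY]
    (hc : IsPullback iX f f' iY) [FormallyUnramified f]
    (h : LocallyOfFiniteType f' ∨ IsNilpotent iY.ker) : FormallyUnramified f' := by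
  refine ⟨fun {U} hU {V} hV e ↦ ?_⟩
  obtain ⟨e₀, he⟩ := isPushout_app hc hU hV e
  have : IsClosedImmersion iX := MorphismProperty.of_isPullback hc.flip inferInstance
  refine formallyUnramified_hom_of_isPushout he (iY.app_surjective U hU)
    (f.formallyUnramified_appLE (hU.preimage iY) (hV.preimage iX) e₀) ?_
  exact h.imp ((fun h' ↦ by
      have := h'
      exact ⟨f'.finiteType_appLE hU hV e, ker_app_le_nilradical iY hU⟩))
    fun h ↦ isNilpotent_ker_app iY h hU

theorem locallyOfFiniteType_of_thickening [IsClosedImmersion iY] (hc : IsPullback iX f f' iY)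
    [LocallyOfFiniteType f] (h : IsNilpotent iY.ker) : LocallyOfFiniteType f' := by
  refine ⟨fun {U} hU {V} hV e ↦ ?_⟩
  obtain ⟨e₀, he⟩ := isPushout_app hc hU hV e
  have : IsClosedImmersion iX := MorphismProperty.of_isPullback hc.flip inferInstance
  exact finiteType_hom_of_isPushout he (iY.app_surjective U hU)
    (f.finiteType_appLE (hU.preimage iY) (hV.preimage iX) e₀) (iX.app_surjective V hV)
    (isNilpotent_ker_app iY h hU)

theorem isNilpotent_comap {J : Y.IdealSheafData} (hJ : IsNilpotent J) (g : X ⟶ Y) :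
    IsNilpotent (J.comap g) := by
  obtain ⟨n, hn⟩ := hJ
  refine ⟨n, ?_⟩
  let ι := {p : Y.affineOpens × X.affineOpens // p.2.1 ≤ g ⁻¹ᵁ p.1.1}
  refine Scheme.IdealSheafData.ext_of_iSup_eq_top (fun p : ι ↦ p.1.2) ?_ fun p ↦ ?_
  · rw [eq_top_iff]
    intro x _
    obtain ⟨_, ⟨U, hU, rfl⟩, hxU, -⟩ :=
      Y.isBasis_affineOpens.exists_subset_of_mem_open (Set.mem_univ (g x)) isOpen_univ
    obtain ⟨_, ⟨V, hV, rfl⟩, hxV, hVU⟩ :=
      X.isBasis_affineOpens.exists_subset_of_mem_open hxU (g ⁻¹ᵁ U).isOpen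
    exact TopologicalSpace.Opens.mem_iSup.mpr ⟨⟨(⟨U, hU⟩, ⟨V, hV⟩), hVU⟩, hxV⟩
  · obtain ⟨⟨U, V⟩, hUV⟩ := p
    have := congrArg (fun K : Y.IdealSheafData ↦ K.ideal U) hn
    simp only [Scheme.IdealSheafData.ideal_pow, Pi.pow_apply] at this ⊢
    rw [Groth.Agent.FpqcDescent.ideal_comap J g U V hUV, ← Ideal.map_pow, this]
    exact Ideal.map_bot

theorem surjective_fst_of_isPullback [Surjective iY] (hc : IsPullback iX f f' iY) :
    Surjective iX :=
  MorphismProperty.of_isPullback (P := @Surjective) hc.flip ‹_›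

theorem universallyInjective_of_thickening [IsClosedImmersion iY] [Surjective iY]
    (hc : IsPullback iX f f' iY) [UniversallyInjective f] : UniversallyInjective f' := by
  have := surjective_fst_of_isPullback hc
  have : UniversallyInjective (iX ≫ f') := by
    rw [hc.w]; exact MorphismProperty.comp_mem _ _ _ ‹_› inferInstance
  exact universallyInjective_of_comp_surjective iX f'

theorem mono_of_thickening_of_locallyOfFiniteType [IsClosedImmersion iY] [Surjective iY]
    (hc : IsPullback iX f f' iY) [Mono f] [LocallyOfFiniteType f'] : Mono f' := by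
  have := formallyUnramified_of_thickening hc (.inl ‹_›)
  have := universallyInjective_of_thickening hc
  have : Surjective (pullback.diagonal f') :=
    (UniversallyInjective.iff_diagonal f').mp inferInstance
  have : IsIso (pullback.diagonal f') :=
    (isIso_iff_isOpenImmersion_and_epi_base _).mpr ⟨inferInstance,
      (TopCat.epi_iff_surjective _).mpr (pullback.diagonal f').surjective⟩
  exact (pullback.isIso_diagonal_iff f').mp inferInstance

theorem mono_of_thickening_of_isNilpotent [IsClosedImmersion iY] [Surjective iY]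
    (hc : IsPullback iX f f' iY) [Mono f] (hn : IsNilpotent iY.ker) : Mono f' := by
  have := formallyUnramified_of_thickening hc (.inr hn)
  refine ⟨fun {Z} g₁ g₂ hg ↦ ?_⟩
  let j := pullback.fst (g₁ ≫ f') iY
  have hj : IsNilpotent j.ker := by
    rw [Scheme.IdealSheafData.ker_fst_of_isClosedImmersion]
    exact isNilpotent_comap hn _
  refine FormallyUnramified.hom_ext j hj f' ?_ hg
  let s := pullback.snd (g₁ ≫ f') iY
  have w₁ : (j ≫ g₁) ≫ f' = s ≫ iY := by rw [Category.assoc]; exact pullback.condition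
  have w₂ : (j ≫ g₂) ≫ f' = s ≫ iY := by rw [Category.assoc, ← hg]; exact pullback.condition
  have h := (cancel_mono f).mp ((hc.lift_snd _ _ w₁).trans (hc.lift_snd _ _ w₂).symm)
  rw [← hc.lift_fst _ _ w₁, ← hc.lift_fst _ _ w₂, h]

theorem isClosedImmersion_of_thickening [IsClosedImmersion iY] [Surjective iY]
    (hc : IsPullback iX f f' iY) [IsClosedImmersion f] [LocallyOfFiniteType f'] :
    IsClosedImmersion f' := by
  have := surjective_fst_of_isPullback hc
  have := mono_of_thickening_of_locallyOfFiniteType hc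
  have : UniversallyClosed (iX ≫ f') := by rw [hc.w]; infer_instance
  have := UniversallyClosed.of_comp_surjective iX f'
  have : IsProper f' := ⟨⟩
  exact (IsClosedImmersion.iff_isProper_and_mono f').mpr ⟨inferInstance, inferInstance⟩

end Groth.Agent.FlatBasics
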