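import Mathlib.RingTheory.Nakayama
import Mathlib.RingTheory.LocalRing.MaximalIdeal.Basic
import Mathlib.RingTheory.OrzechProperty
import Mathlib.RingTheory.FiniteType
import Mathlib.RingTheory.Ideal.Maps
import Mathlib.LinearAlgebra.TensorProduct.Tower
import Mathlib.Algebra.DirectSum.Decomposition
import Mathlib.RingTheory.AdicCompletion.Basic
import Mathlib.Algebra.Module.Projective

universe u

open scoped TensorProduct
open LinearMap Function

namespace Groth.Agent.FlatBasics

/-- Every element of `F ⊗ M` comes from `G ⊗ M` with `G` a finite submodule with a retraction. -/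
def HasFinitePieces (R F : Type u) [CommRing R] [AddCommGroup F] [Module R F] : Prop :=
  ∀ N₀ : Submodule R F, N₀.FG →
    ∃ (G : Submodule R F) (π : F →ₗ[R] G), G.FG ∧ N₀ ≤ G ∧ ∀ g : G, π g = g

variable {R : Type u} [CommRing R] {F M : Type u} [AddCommGroup F] [Module R F] [AddCommGroup M]
  [Module R M]

theorem exists_fg_mem_range (x : F ⊗[R] M) :
    ∃ N₀ : Submodule R F, N₀.FG ∧ x ∈ LinearMap.range (N₀.subtype.rTensor M) := by
  induction x with
  | zero => exact ⟨⊥, Submodule.fg_bot, zero_mem _⟩
  | tmul f m =>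
    exact ⟨Submodule.span R {f}, Submodule.fg_span_singleton f,
      ⟨⟨f, Submodule.mem_span_singleton_self f⟩ ⊗ₜ m, rfl⟩⟩
  | add x y hx hy =>
    obtain ⟨G, hG, a, rfl⟩ := hx
    obtain ⟨G', hG', b, rfl⟩ := hy
    refine ⟨G ⊔ G', hG.sup hG', (Submodule.inclusion le_sup_left).rTensor M a +
      (Submodule.inclusion le_sup_right).rTensor M b, ?_⟩
    rw [map_add, ← rTensor_comp_apply, ← rTensor_comp_apply]
    rfl

theorem rTensor_one_sub_injective [IsLocalRing R] (hF : HasFinitePieces R F) (e : F →ₗ[R] F)
    (he : ∀ f, e f ∈ IsLocalRing.maximalIdeal R • (⊤ : Submodule R F)) {x : F ⊗[R] M}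
    (hx : e.rTensor M x = x) : x = 0 := by
  obtain ⟨N₀, hN₀, y, rfl⟩ := exists_fg_mem_range x
  obtain ⟨G, π, hG, hle, hπ⟩ := hF N₀ hN₀
  haveI : Module.Finite R G := Module.Finite.iff_fg.mpr hG
  let g := (Submodule.inclusion hle).rTensor M y
  have hg : G.subtype.rTensor M g = N₀.subtype.rTensor M y := by
    rw [← rTensor_comp_apply]; rfl
  rw [← hg] at hx ⊢
  clear_value g
  let ψ : G →ₗ[R] G := LinearMap.id - π ∘ₗ e ∘ₗ G.subtype
  have hψ : Surjective ψ := by
    rw [← LinearMap.range_eq_top]
    refine top_le_iff.mp (Submodule.le_of_le_smul_of_le_jacobson_bot Module.Finite.fg_top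
      (IsLocalRing.maximalIdeal_le_jacobson ⊥) ?_)
    intro z _
    have h1 : π (e z.1) ∈ IsLocalRing.maximalIdeal R • (⊤ : Submodule R G) := by
      have := Submodule.mem_map_of_mem (f := π) (he z.1)
      rw [Submodule.map_smul''] at this
      exact Submodule.smul_mono le_rfl le_top this
    simpa [ψ] using Submodule.add_mem_sup (LinearMap.mem_range_self ψ z) h1
  have hbij : Injective (ψ.rTensor M) :=
    (((LinearEquiv.ofBijective ψ ⟨OrzechProperty.injective_of_surjective_endomorphism ψ hψ, hψ⟩).rTensor M)).injective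
  suffices g = 0 by simp [this]
  apply hbij
  have hπ' : π ∘ₗ G.subtype = LinearMap.id := LinearMap.ext hπ
  have h2 := congrArg (π.rTensor M) hx
  rw [← rTensor_comp_apply, ← rTensor_comp_apply, ← rTensor_comp_apply, hπ', rTensor_id] at h2
  rw [map_zero]
  simp only [ψ, rTensor_sub, LinearMap.sub_apply, rTensor_id, LinearMap.id_apply]
  rw [sub_eq_zero]
  simpa [LinearMap.comp_assoc] using h2.symm

theorem smul_eq_rTensor_lsmul {S N : Type u} [CommRing S] [Algebra R S] [AddCommGroup N] [Module R N]
    [Module S N] [IsScalarTower R S N] (s : S) (x : N ⊗[R] M) :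
    s • x = ((LinearMap.lsmul S N s).restrictScalars R).rTensor M x := by
  induction x with
  | zero => simp
  | add x y hx hy => simp [smul_add, hx, hy]
  | tmul n m => simp [TensorProduct.smul_tmul']

theorem smul_mem_of_mem_map {S N : Type u} [CommRing S] [Algebra R S] [AddCommGroup N] [Module R N]
    [Module S N] [IsScalarTower R S N] {I : Ideal R} {s : S} (hs : s ∈ I.map (algebraMap R S))
    {n : ℕ} {x : N} (hx : x ∈ I ^ n • (⊤ : Submodule R N)) :
    s • x ∈ I ^ (n + 1) • (⊤ : Submodule R N) := by
  induction hs using Submodule.span_induction generalizing x with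
  | mem s hs =>
    obtain ⟨a, ha, rfl⟩ := hs
    rw [algebraMap_smul, pow_succ', mul_smul]
    exact Submodule.smul_mem_smul ha hx
  | zero => simp
  | add a b _ _ iha ihb => rw [add_smul]; exact add_mem (iha hx) (ihb hx)
  | smul t a _ iha =>
    rw [smul_eq_mul, mul_comm, mul_smul]
    apply iha
    refine Submodule.smul_induction_on hx (fun r hr z _ => ?_) fun y z hy hz => ?_
    · rw [smul_comm]; exact Submodule.smul_mem_smul hr trivial
    · rw [smul_add]; exact add_mem hy hz

theorem smul_one_sub_bijective {S N : Type u} [CommRing S] [Algebra R S] [AddCommGroup N] [Module R N]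
    [Module S N] [IsScalarTower R S N] (I : Ideal R) [IsAdicComplete I N] {s : S}
    (hs : s ∈ I.map (algebraMap R S)) :
    Bijective ((LinearMap.lsmul S N (1 - s)).restrictScalars R) := by
  have hpow : ∀ (n : ℕ) (x : N), s ^ n • x ∈ I ^ n • (⊤ : Submodule R N) := by
    intro n x
    induction n with
    | zero => simp [Ideal.one_eq_top]
    | succ n ih => rw [pow_succ' s, mul_smul]; exact smul_mem_of_mem_map hs ih
  refine ⟨(injective_iff_map_eq_zero _).mpr fun x hx => ?_, fun z => ?_⟩
  · have hx' : s • x = x := by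
      simp only [LinearMap.coe_restrictScalars, LinearMap.lsmul_apply, sub_smul, one_smul, sub_eq_zero] at hx
      exact hx.symm
    refine IsHausdorff.haus (I := I) inferInstance x fun n => ?_
    rw [SModEq.zero]
    have h : s ^ n • x = x := by
      induction n with
      | zero => simp
      | succ n ih => rw [pow_succ, mul_smul, hx', ih]
    exact h ▸ hpow n x
  · let f : ℕ → N := fun n => ∑ i ∈ Finset.range n, s ^ i • z
    have hf : ∀ {m n}, m ≤ n → f m ≡ f n [SMOD (I ^ m • ⊤ : Submodule R N)] := by
      intro m n hmn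
      rw [SModEq.sub_mem, ← neg_sub, neg_mem_iff]
      simp only [f]
      rw [← Finset.sum_range_add_sum_Ico _ hmn, add_sub_cancel_left]
      exact sum_mem fun i hi => Submodule.smul_mono (Ideal.pow_le_pow_right (Finset.mem_Ico.mp hi).1) le_rfl (hpow i z)
    obtain ⟨y, hy⟩ := IsPrecomplete.prec (I := I) inferInstance hf
    refine ⟨y, ?_⟩
    rw [← sub_eq_zero]
    refine IsHausdorff.haus (I := I) inferInstance _ fun n => ?_
    rw [SModEq.zero]
    have h1 : (1 - s) • f n = z - s ^ n • z := by
      simp only [f, Finset.smul_sum, ← mul_smul]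
      rw [← Finset.sum_smul, ← Finset.mul_sum, mul_neg_geom_sum, sub_smul, one_smul]
    have h2 : (1 - s) • (y - f n) ∈ I ^ n • (⊤ : Submodule R N) := by
      have h0 : y - f n ∈ I ^ n • (⊤ : Submodule R N) := SModEq.sub_mem.mp (hy n).symm
      rw [sub_smul, one_smul]
      exact sub_mem h0 (Submodule.smul_mono (Ideal.pow_le_pow_right (n.le_succ)) le_rfl (smul_mem_of_mem_map hs h0))
    have h3 : (1 - s) • y - z = (1 - s) • (y - f n) - s ^ n • z := by
      rw [smul_sub, h1]; abel
    show (1 - s) • y - z ∈ _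
    rw [h3]
    exact sub_mem h2 (hpow n z)

end Groth.Agent.FlatBasics
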