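import Mathlib.RingTheory.FinitePresentation
import Mathlib.RingTheory.RingHom.FinitePresentation
import Mathlib.RingTheory.RingHom.Flat
import Mathlib.RingTheory.IsTensorProduct
import Groth.Agent.FlatCrit.BaseIdeal
import Groth.Agent.FlatBasics.DeformAlg
import Groth.Agent.FpqcDescent.IdealComap

/-!
# Flatness and finite presentation along nilpotent ideals of the base
-/

universe u

open TensorProduct CategoryTheory CategoryTheory.Limits

namespace Groth.Agent.FlatBasics

/-- If `P → B` is surjective with kernel `K` and `B` is flat over `R`, then `K ∩ IP = IK`. -/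
theorem mem_smul_top_of_mem_ker {R P B : Type u} [CommRing R] [AddCommGroup P] [Module R P]
    [AddCommGroup B] [Module R B] [Module.Flat R B] (q : P →ₗ[R] B) (hq : Function.Surjective q)
    (I : Ideal R) (k : LinearMap.ker q) (hk : (k : P) ∈ I • (⊤ : Submodule R P)) :
    k ∈ I • (⊤ : Submodule R (LinearMap.ker q)) := by
  let K : Submodule R P := LinearMap.ker q
  letI : AddCommGroup ↥K := Submodule.addCommGroup _
  have hinj : Function.Injective (K.subtype.lTensor (R ⧸ I)) :=
    FlatCrit.TorZero.lTensor_injective (FlatCrit.TorZero.of_flat (Q := B)) Subtype.val_injective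
      (LinearMap.exact_subtype_ker_map q) hq
  have h0 : (Ideal.Quotient.mk I 1) ⊗ₜ[R] (k : P) = 0 := by
    apply (TensorProduct.quotTensorEquivQuotSMul P I).injective
    rw [map_zero, TensorProduct.quotTensorEquivQuotSMul_mk_tmul, one_smul,
      Submodule.Quotient.mk_eq_zero]
    exact hk
  have h1 : (Ideal.Quotient.mk I 1) ⊗ₜ[R] (k : K) = 0 := hinj (by simpa using h0)
  apply_fun TensorProduct.quotTensorEquivQuotSMul K I at h1
  rwa [map_zero, TensorProduct.quotTensorEquivQuotSMul_mk_tmul, one_smul,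
    Submodule.Quotient.mk_eq_zero] at h1

/-- Generators of a kernel lift along a nilpotent ideal. -/
theorem ker_eq_of_isNilpotent {R P P₀ B : Type u} [CommRing R] [CommRing P] [CommRing P₀]
    [CommRing B] [Algebra R P] [Algebra R B] [Module.Flat R B] (q : P →ₐ[R] B)
    (hq : Function.Surjective q) (red : P →+* P₀) (hreds : Function.Surjective red) {I : Ideal R}
    (hI : IsNilpotent I) (hred : RingHom.ker red ≤ I.map (algebraMap R P)) (T : Ideal P)
    (hT : T ≤ RingHom.ker q.toRingHom)
    (h : ∀ k ∈ RingHom.ker q.toRingHom, red k ∈ T.map red) : RingHom.ker q.toRingHom = T := by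
  let K : Submodule R P := LinearMap.ker q.toLinearMap
  letI : AddCommGroup ↥K := Submodule.addCommGroup _
  have key : ((T.restrictScalars R).comap K.subtype) = ⊤ := by
    refine eq_top_of_sup_smul_top_of_isNilpotent hI ?_
    rw [eq_top_iff]
    intro k _
    obtain ⟨a, ha, hax⟩ := (Ideal.mem_map_iff_of_surjective _ hreds).mp (h k.1 k.2)
    have haK : a ∈ K := hT ha
    refine Submodule.mem_sup.mpr ⟨⟨a, haK⟩, ha, k - ⟨a, haK⟩, ?_, add_sub_cancel _ _⟩
    refine mem_smul_top_of_mem_ker q.toLinearMap hq I _ ?_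
    rw [Ideal.smul_top_eq_map, Submodule.restrictScalars_mem]
    refine hred ?_
    rw [RingHom.mem_ker, Submodule.coe_sub, map_sub, ← hax, sub_self]
  refine le_antisymm (fun x hx ↦ ?_) hT
  have : (⟨x, hx⟩ : K) ∈ (T.restrictScalars R).comap K.subtype := key ▸ trivial
  exact this

/-- Finite presentation lifts along a nilpotent ideal of a base over which the algebra is flat. -/
theorem finitePresentation_of_isNilpotent {R A B : Type u} [CommRing R] [CommRing A] [CommRing B]
    [Algebra R A] [Algebra A B] [Algebra R B] [IsScalarTower R A B] [Module.Flat R B]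
    {I : Ideal R} (hI : IsNilpotent I)
    (h : Algebra.FinitePresentation (A ⧸ I.map (algebraMap R A))
      (B ⧸ (I.map (algebraMap R A)).map (algebraMap A B))) :
    Algebra.FinitePresentation A B := by
  classical
  let J := I.map (algebraMap R A)
  have hJ : IsNilpotent J := by
    obtain ⟨n, hn⟩ := hI
    exact ⟨n, by rw [← Ideal.map_pow, hn]; exact Ideal.map_bot⟩
  have : Algebra.FiniteType A (A ⧸ J) :=
    .of_surjective (Algebra.ofId A (A ⧸ J)) Ideal.Quotient.mk_surjective
  have : Algebra.FiniteType A (B ⧸ J.map (algebraMap A B)) :=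
    .trans (S := A ⧸ J) ‹_› inferInstance
  have hft : Algebra.FiniteType A B := finiteType_of_isNilpotent hJ ‹_›
  obtain ⟨n, q, hq⟩ := Algebra.FiniteType.iff_quotient_mvPolynomial''.mp hft
  let P := MvPolynomial (Fin n) A
  let red : P →ₐ[A] MvPolynomial (Fin n) (A ⧸ J) := MvPolynomial.mapAlgHom (Algebra.ofId A (A ⧸ J))
  let q₀ : MvPolynomial (Fin n) (A ⧸ J) →ₐ[A ⧸ J] B ⧸ J.map (algebraMap A B) :=
    MvPolynomial.aeval fun i ↦ Ideal.Quotient.mk _ (q (MvPolynomial.X i))
  have hcomm : ∀ p, q₀ (red p) = Ideal.Quotient.mk _ (q p) := by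
    intro p
    have : (q₀.toRingHom.comp red.toRingHom) = (Ideal.Quotient.mk _).comp q.toRingHom := by
      refine MvPolynomial.ringHom_ext (fun a ↦ ?_) fun i ↦ ?_
      · simp [red, q₀, P]
      · simp [red, q₀, P]
    exact congr($this p)
  have hreds : Function.Surjective red :=
    MvPolynomial.map_surjective _ Ideal.Quotient.mk_surjective
  have hq₀ : Function.Surjective q₀ := fun b ↦ by
    obtain ⟨b, rfl⟩ := Ideal.Quotient.mk_surjective b
    obtain ⟨p, rfl⟩ := hq b
    exact ⟨red p, hcomm p⟩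
  obtain ⟨s, hs⟩ := Algebra.FinitePresentation.ker_fG_of_surjective q₀ hq₀
  have hlift : ∀ x ∈ RingHom.ker q₀.toRingHom, ∃ k ∈ RingHom.ker q.toRingHom, red k = x := by
    intro x hx
    obtain ⟨p, rfl⟩ := hreds x
    have hqp : q p ∈ J.map (algebraMap A B) := by
      rw [← Ideal.Quotient.eq_zero_iff_mem, ← hcomm]; exact hx
    have h' : q p ∈ (J.map (algebraMap A P)).map q.toRingHom := by
      have e' : q.toRingHom.comp (algebraMap A P) = algebraMap A B := q.comp_algebraMap
      rwa [Ideal.map_map, e']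
    obtain ⟨j, hj, hjq⟩ := (Ideal.mem_map_iff_of_surjective _ hq).mp h'
    refine ⟨p - j, RingHom.mem_ker.mpr (by rw [map_sub]; exact sub_eq_zero.mpr hjq.symm), ?_⟩
    have : red j = 0 := by
      have : J.map (algebraMap A P) ≤ RingHom.ker red.toRingHom := by
        rw [Ideal.map_le_iff_le_comap]
        intro a ha
        simp [red, P, Ideal.Quotient.eq_zero_iff_mem, ha]
      exact this hj
    rw [map_sub, this, sub_zero]
  choose g hg hgred using fun x : s ↦ hlift x.1 (hs ▸ Ideal.subset_span x.2)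
  refine Algebra.FinitePresentation.of_surjective (f := q) hq ⟨Finset.univ.image g, ?_⟩
  refine (ker_eq_of_isNilpotent (q.restrictScalars R) hq red.toRingHom hreds hI ?_ _ ?_ ?_).symm
  · intro p hp
    have hp' : p ∈ J.map (MvPolynomial.C (σ := Fin n)) := by
      rw [← Ideal.mk_ker (I := J), ← MvPolynomial.ker_map]
      exact hp
    rwa [← MvPolynomial.algebraMap_eq, Ideal.map_map,
      ← IsScalarTower.algebraMap_eq R A P] at hp'
  · refine Ideal.span_le.mpr fun y hy ↦ ?_
    obtain ⟨z, -, rfl⟩ := Finset.mem_image.mp hy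
    exact hg z
  · intro k hk
    have hx : red k ∈ RingHom.ker q₀.toRingHom := by
      refine RingHom.mem_ker.mpr ((hcomm k).trans ?_)
      rw [show q k = 0 from hk, map_zero]
    rw [← hs] at hx
    refine Ideal.span_le.mpr (fun y hy ↦ ?_) hx
    have := Ideal.mem_map_of_mem red.toRingHom
      (Ideal.subset_span (α := P) (s := ↑(Finset.univ.image g))
        (Finset.mem_image_of_mem g (Finset.mem_univ ⟨y, hy⟩)))
    rwa [show red.toRingHom (g ⟨y, hy⟩) = y from hgred ⟨y, hy⟩] at this

/-- Flatness lifts along a nilpotent ideal of a base over which the algebra is flat. -/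
theorem flat_hom_of_isPushout {R : Type u} [CommRing R] {A B A₀ B₀ : CommRingCat.{u}}
    {φ : A ⟶ B} {π : A ⟶ A₀} {q : B ⟶ B₀} {ψ : A₀ ⟶ B₀} (h : IsPushout φ π q ψ)
    (γ : R →+* A) {I : Ideal R} (hI : IsNilpotent I) (hπ : Function.Surjective π.hom)
    (hker : RingHom.ker π.hom = I.map γ) (hflat : (φ.hom.comp γ).Flat) (hψ : ψ.hom.Flat) :
    φ.hom.Flat := by
  let J := I.map γ
  let e : A₀ ≅ CommRingCat.of (A ⧸ J) := RingEquiv.toCommRingCatIso
    ((RingHom.quotientKerEquivOfSurjective hπ).symm.trans (Ideal.quotEquivOfEq hker))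
  have he : π ≫ e.hom = CommRingCat.ofHom (Ideal.Quotient.mk J) := by
    apply CommRingCat.hom_ext
    ext a
    apply e.commRingCatIsoToRingEquiv.symm.injective
    simp [e, CommRingCat.hom_comp]
  have h' : IsPushout φ (CommRingCat.ofHom (Ideal.Quotient.mk J)) q (e.inv ≫ ψ) :=
    h.of_iso (Iso.refl _) (Iso.refl _) e (Iso.refl _) (by simp) (by simp [he]) (by simp) (by simp)
  have hψ' : (e.inv ≫ ψ).hom.Flat := by
    rw [CommRingCat.hom_comp]
    exact (RingHom.Flat.of_bijective (ConcreteCategory.bijective_of_isIso e.inv)).comp hψ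
  algebraize [γ, φ.hom, φ.hom.comp γ, (e.inv ≫ ψ).hom, q.hom, q.hom.comp φ.hom]
  have : IsScalarTower A (A ⧸ J) B₀ :=
    IsScalarTower.of_algebraMap_eq' (congrArg CommRingCat.Hom.hom h'.w)
  have : Algebra.IsPushout A (A ⧸ J) B B₀ := CommRingCat.isPushout_iff_isPushout.mp h'.flip
  have : Module.Flat (A ⧸ J) ((A ⧸ J) ⊗[A] B) :=
    Module.Flat.of_linearEquiv (Algebra.IsPushout.equiv A (A ⧸ J) B B₀).toLinearEquiv
  have hJ : IsNilpotent J := by
    obtain ⟨n, hn⟩ := hI
    exact ⟨n, by rw [← Ideal.map_pow, hn]; exact Ideal.map_bot⟩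
  exact FlatCrit.flat_of_isNilpotent hJ (FlatCrit.lTensor_subtype_map_injective_of_flat I)

/-- Finite presentation lifts along a nilpotent ideal of a base over which the algebra is flat. -/
theorem finitePresentation_hom_of_isPushout {R : Type u} [CommRing R] {A B A₀ B₀ : CommRingCat.{u}}
    {φ : A ⟶ B} {π : A ⟶ A₀} {q : B ⟶ B₀} {ψ : A₀ ⟶ B₀} (h : IsPushout φ π q ψ)
    (γ : R →+* A) {I : Ideal R} (hI : IsNilpotent I) (hπ : Function.Surjective π.hom)
    (hqs : Function.Surjective q.hom) (hker : RingHom.ker π.hom = I.map γ)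
    (hflat : (φ.hom.comp γ).Flat) (hψ : ψ.hom.FinitePresentation) :
    φ.hom.FinitePresentation := by
  have hq := Groth.Agent.FpqcDescent.ker_eq_map_of_isPushout h hπ
  let eA := (RingHom.quotientKerEquivOfSurjective hπ).symm.trans (Ideal.quotEquivOfEq hker)
  let eB := (RingHom.quotientKerEquivOfSurjective hqs).symm.trans
    (Ideal.quotEquivOfEq (hq.trans (by rw [hker])))
  algebraize [γ, φ.hom, φ.hom.comp γ]
  refine finitePresentation_of_isNilpotent hI (RingHom.finitePresentation_algebraMap.mp ?_)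
  have h2 : (eB.toRingHom.comp (ψ.hom.comp eA.symm.toRingHom)).FinitePresentation :=
    RingHom.finitePresentation_respectsIso.1 _ eB
      (RingHom.finitePresentation_respectsIso.2 _ eA.symm hψ)
  suffices heq : eB.toRingHom.comp (ψ.hom.comp eA.symm.toRingHom) =
      algebraMap (A ⧸ I.map γ) (B ⧸ (I.map γ).map (algebraMap A B)) from heq ▸ h2
  apply Ideal.Quotient.ringHom_ext
  ext a
  apply eB.symm.injective
  simp [eA, eB]
  rw [← show q.hom (φ.hom a) = ψ.hom (π.hom a) from congr($(congrArg CommRingCat.Hom.hom h.w) a),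
    show (RingHom.quotientKerEquivOfSurjective hqs).symm (q.hom (φ.hom a)) = Ideal.Quotient.mk _ (φ.hom a)
      from (RingEquiv.symm_apply_eq _).mpr rfl]
  rfl

end Groth.Agent.FlatBasics
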