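import Mathlib.AlgebraicGeometry.Morphisms.Etale
import Mathlib.AlgebraicGeometry.Morphisms.FlatMono
import Mathlib.AlgebraicGeometry.Morphisms.SmoothFiber
import Mathlib.AlgebraicGeometry.Morphisms.FlatRank
import Mathlib.AlgebraicGeometry.ZariskisMainTheorem
import Groth.Agent.FlatBasics.Deform
import Groth.Agent.FlatBasics.DeformFlatAlg
import Groth.Prelude.Def_Mor2

/-!
# Deforming properties of flat morphisms along finite order thickenings
-/

universe u

open CategoryTheory CategoryTheory.Limits AlgebraicGeometry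

namespace Groth.Agent.FlatBasics

variable {X X' Y Y' S S' : Scheme.{u}} {iX : X ⟶ X'} {iY : Y ⟶ Y'} {iS : S ⟶ S'}
  {f : X ⟶ Y} {f' : X' ⟶ Y'} {g : Y ⟶ S} {g' : Y' ⟶ S'}

theorem isPullback_left_square (hcX : IsPullback iX (f ≫ g) (f' ≫ g') iS)
    (hcY : IsPullback iY g g' iS) (w : iX ≫ f' = f ≫ iY) : IsPullback iX f f' iY :=
  hcX.of_bot w hcY

theorem isNilpotent_ker_of_isPullback [IsClosedImmersion iS] (hn : IsNilpotent iS.ker)
    (hcY : IsPullback iY g g' iS) : IsNilpotent iY.ker := by
  rw [← hcY.isoPullback_hom_fst, Scheme.Hom.ker_comp_of_isIso,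
    Scheme.IdealSheafData.ker_fst_of_isClosedImmersion]
  exact isNilpotent_comap hn _

theorem exists_chart_over (f' : X' ⟶ Y') (g' : Y' ⟶ S') (x' : X') :
    ∃ (W : S'.Opens) (U : Y'.affineOpens) (V : X'.affineOpens) (_ : IsAffineOpen W)
      (_ : U.1 ≤ g' ⁻¹ᵁ W), x' ∈ V.1 ∧ V.1 ≤ f' ⁻¹ᵁ U.1 := by
  obtain ⟨_, ⟨W, hW, rfl⟩, hxW, -⟩ :=
    S'.isBasis_affineOpens.exists_subset_of_mem_open (Set.mem_univ (g' (f' x'))) isOpen_univ
  obtain ⟨_, ⟨U, hU, rfl⟩, hxU, hUW⟩ :=
    Y'.isBasis_affineOpens.exists_subset_of_mem_open hxW (g' ⁻¹ᵁ W).isOpen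
  obtain ⟨_, ⟨V, hV, rfl⟩, hxV, hVU⟩ :=
    X'.isBasis_affineOpens.exists_subset_of_mem_open hxU (f' ⁻¹ᵁ U).isOpen
  exact ⟨W, ⟨U, hU⟩, ⟨V, hV⟩, hW, hUW, hxV, hVU⟩

theorem exists_chart_algebra [IsClosedImmersion iS] (hn : IsNilpotent iS.ker)
    (hcX : IsPullback iX (f ≫ g) (f' ≫ g') iS) (hcY : IsPullback iY g g' iS)
    (w : iX ≫ f' = f ≫ iY) [Flat (f' ≫ g')] (x' : X') :
    ∃ (U : Y'.affineOpens) (V : X'.affineOpens) (_ : x' ∈ V.1) (e : V.1 ≤ f' ⁻¹ᵁ U.1)
      (e₀ : iX ⁻¹ᵁ V.1 ≤ f ⁻¹ᵁ (iY ⁻¹ᵁ U.1))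
      (R : CommRingCat.{u}) (γ : R ⟶ Γ(Y', U.1)) (I : Ideal R),
      IsPushout (f'.appLE U.1 V.1 e) (iY.app U.1) (iX.app V.1)
        (f.appLE (iY ⁻¹ᵁ U.1) (iX ⁻¹ᵁ V.1) e₀) ∧
      IsNilpotent I ∧ RingHom.ker (iY.app U.1).hom = I.map γ.hom ∧
      ((f'.appLE U.1 V.1 e).hom.comp γ.hom).Flat := by
  have : IsClosedImmersion iY := MorphismProperty.of_isPullback hcY.flip inferInstance
  obtain ⟨W, U, V, hW, hUW, hxV, hVU⟩ := exists_chart_over f' g' x'
  obtain ⟨e₀, hpo⟩ := isPushout_app (isPullback_left_square hcX hcY w) U.2 V.2 hVU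
  obtain ⟨e₁, hpo'⟩ := isPushout_app hcY hW U.2 hUW
  refine ⟨U, V, hxV, hVU, e₀, Γ(S', W), g'.appLE W U.1 hUW, RingHom.ker (iS.app W).hom, hpo,
    isNilpotent_ker_app iS hn hW,
    Groth.Agent.FpqcDescent.ker_eq_map_of_isPushout hpo' (iS.app_surjective W hW), ?_⟩
  rw [← CommRingCat.hom_comp, Scheme.Hom.appLE_comp_appLE]
  exact (f' ≫ g').flat_appLE hW V.2 _

theorem flat_of_deform [IsClosedImmersion iS] (hn : IsNilpotent iS.ker)
    (hcX : IsPullback iX (f ≫ g) (f' ≫ g') iS) (hcY : IsPullback iY g g' iS)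
    (w : iX ≫ f' = f ≫ iY) [Flat (f' ≫ g')] [Flat f] : Flat f' := by
  have : IsClosedImmersion iY := MorphismProperty.of_isPullback hcY.flip inferInstance
  have : IsClosedImmersion iX :=
    MorphismProperty.of_isPullback (isPullback_left_square hcX hcY w).flip inferInstance
  refine (HasRingHomProperty.iff_exists_appLE (P := @Flat)
    (RingHom.Flat.stableUnderComposition.stableUnderCompositionWithLocalizationAway
      RingHom.Flat.holdsForLocalizationAway).1).mpr fun x' ↦ ?_
  obtain ⟨U, V, hxV, e, e₀, R, γ, I, hpo, hI, hker, hflat⟩ := exists_chart_algebra hn hcX hcY w x'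
  exact ⟨U, V, hxV, e, flat_hom_of_isPushout hpo γ.hom hI (iY.app_surjective _ U.2) hker hflat
    (f.flat_appLE (U.2.preimage iY) (V.2.preimage iX) e₀)⟩

theorem locallyOfFinitePresentation_of_deform [IsClosedImmersion iS] (hn : IsNilpotent iS.ker)
    (hcX : IsPullback iX (f ≫ g) (f' ≫ g') iS) (hcY : IsPullback iY g g' iS)
    (w : iX ≫ f' = f ≫ iY) [Flat (f' ≫ g')] [LocallyOfFinitePresentation f] :
    LocallyOfFinitePresentation f' := by
  have : IsClosedImmersion iY := MorphismProperty.of_isPullback hcY.flip inferInstance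
  have : IsClosedImmersion iX :=
    MorphismProperty.of_isPullback (isPullback_left_square hcX hcY w).flip inferInstance
  refine (HasRingHomProperty.iff_exists_appLE (P := @LocallyOfFinitePresentation)
    (RingHom.finitePresentation_stableUnderComposition.stableUnderCompositionWithLocalizationAway
      RingHom.finitePresentation_holdsForLocalizationAway).1).mpr fun x' ↦ ?_
  obtain ⟨U, V, hxV, e, e₀, R, γ, I, hpo, hI, hker, hflat⟩ := exists_chart_algebra hn hcX hcY w x'
  exact ⟨U, V, hxV, e, finitePresentation_hom_of_isPushout hpo γ.hom hI (iY.app_surjective _ U.2)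
    (iX.app_surjective _ V.2) hker hflat
    (f.finitePresentation_appLE (U.2.preimage iY) (V.2.preimage iX) e₀)⟩

instance isIso_residueFieldMap_of_isClosedImmersion (i : X ⟶ X') [IsClosedImmersion i] (x : X) :
    IsIso (i.residueFieldMap x) := by
  rw [ConcreteCategory.isIso_iff_bijective]
  refine ⟨RingHom.injective _, fun b ↦ ?_⟩
  obtain ⟨a, rfl⟩ := Scheme.residue_surjective X x b
  obtain ⟨a', rfl⟩ := i.stalkMap_surjective x a
  exact ⟨X'.residue (i x) a', congr($(congrArg CommRingCat.Hom.hom (Scheme.residue_residueFieldMap i x)) a')⟩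

theorem fiberToSpecResidueField_iff (P : MorphismProperty Scheme.{u})
    [P.IsStableUnderBaseChange] [IsClosedImmersion iY] (hc : IsPullback iX f f' iY) (y : Y) :
    P (f.fiberToSpecResidueField y) ↔ P (f'.fiberToSpecResidueField (iY y)) := by
  have h := isPullback_fiberToSpecResidueField_of_isPullback hc y
  have : IsIso (iY.residueFieldMap y) := isIso_residueFieldMap_of_isClosedImmersion iY y
  have hSp : IsIso (Spec.map (iY.residueFieldMap y)) := (isIso_SpecMap_iff (f := iY.residueFieldMap y)).mpr (ConcreteCategory.bijective_of_isIso _)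
  refine ⟨fun hp ↦ ?_, fun hp ↦ MorphismProperty.of_isPullback h hp⟩
  have := h.isIso_fst_of_isIso
  exact (P.arrow_mk_iso_iff (Arrow.isoMk (asIso (pullback.map f (Y.fromSpecResidueField y) f'
    (Y'.fromSpecResidueField (iY y)) iX (Spec.map (iY.residueFieldMap y)) iY hc.w.symm _))
    (@asIso _ _ _ _ (Spec.map (iY.residueFieldMap y)) hSp) h.w)).mp hp

theorem smooth_of_thickening [IsClosedImmersion iY] [Surjective iY]
    (hc : IsPullback iX f f' iY) [Smooth f] [Flat f'] [LocallyOfFinitePresentation f'] :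
    Smooth f' := by
  refine Smooth.of_smooth_fiberToSpecResidueField f' fun y' ↦ ?_
  obtain ⟨y, rfl⟩ := iY.surjective y'
  exact (fiberToSpecResidueField_iff @Smooth hc y).mp
    (MorphismProperty.pullback_snd (P := @Smooth) _ _ ‹_›)

theorem smooth_of_deform [IsClosedImmersion iS] [Surjective iS] (hn : IsNilpotent iS.ker)
    (hcX : IsPullback iX (f ≫ g) (f' ≫ g') iS) (hcY : IsPullback iY g g' iS)
    (w : iX ≫ f' = f ≫ iY) [Flat (f' ≫ g')] [Smooth f] : Smooth f' := by
  have : IsClosedImmersion iY := MorphismProperty.of_isPullback hcY.flip inferInstance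
  have := surjective_fst_of_isPullback hcY
  have := flat_of_deform hn hcX hcY w
  have := locallyOfFinitePresentation_of_deform hn hcX hcY w
  exact smooth_of_thickening (isPullback_left_square hcX hcY w)

theorem etale_of_deform [IsClosedImmersion iS] [Surjective iS] (hn : IsNilpotent iS.ker)
    (hcX : IsPullback iX (f ≫ g) (f' ≫ g') iS) (hcY : IsPullback iY g g' iS)
    (w : iX ≫ f' = f ≫ iY) [Flat (f' ≫ g')] [Etale f] : Etale f' := by
  have : IsClosedImmersion iY := MorphismProperty.of_isPullback hcY.flip inferInstance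
  have := surjective_fst_of_isPullback hcY
  have := flat_of_deform hn hcX hcY w
  have := locallyOfFinitePresentation_of_deform hn hcX hcY w
  have := formallyUnramified_of_thickening (isPullback_left_square hcX hcY w) (.inl inferInstance)
  exact Etale.of_formallyUnramified_of_flat f'

theorem isOpenImmersion_of_deform [IsClosedImmersion iS] [Surjective iS]
    (hn : IsNilpotent iS.ker) (hcX : IsPullback iX (f ≫ g) (f' ≫ g') iS)
    (hcY : IsPullback iY g g' iS) (w : iX ≫ f' = f ≫ iY) [Flat (f' ≫ g')] [IsOpenImmersion f] :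
    IsOpenImmersion f' := by
  have : IsClosedImmersion iY := MorphismProperty.of_isPullback hcY.flip inferInstance
  have := surjective_fst_of_isPullback hcY
  have := flat_of_deform hn hcX hcY w
  have := locallyOfFinitePresentation_of_deform hn hcX hcY w
  have := mono_of_thickening_of_locallyOfFiniteType (isPullback_left_square hcX hcY w)
  exact IsOpenImmersion.of_flat_of_mono f'

theorem isIso_of_deform [IsClosedImmersion iS] [Surjective iS] (hn : IsNilpotent iS.ker)
    (hcX : IsPullback iX (f ≫ g) (f' ≫ g') iS)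
    (hcY : IsPullback iY g g' iS) (w : iX ≫ f' = f ≫ iY) [Flat (f' ≫ g')] [IsIso f] :
    IsIso f' := by
  have := isOpenImmersion_of_deform hn hcX hcY w
  have : Surjective iY := surjective_fst_of_isPullback hcY
  have : Surjective (iX ≫ f') := by rw [w]; infer_instance
  have : Surjective f' := Surjective.of_comp iX f'
  exact (isIso_iff_isOpenImmersion_and_epi_base _).mpr
    ⟨inferInstance, (TopCat.epi_iff_surjective _).mpr f'.surjective⟩

theorem isSeparated_of_thickening [IsClosedImmersion iY] [Surjective iY]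
    (hc : IsPullback iX f f' iY) [IsSeparated f] : IsSeparated f' := by
  have := surjective_fst_of_isPullback hc
  have : IsClosedImmersion iX := MorphismProperty.of_isPullback hc.flip inferInstance
  have : IsSeparated (iX ≫ f') := by rw [hc.w]; infer_instance
  have hm : IsClosedImmersion
      (pullback.map (iX ≫ f') (iX ≫ f') f' f' iX iX (𝟙 _) (by simp) (by simp)) :=
    MorphismProperty.pullbackMap (P := @IsClosedImmersion) (f := iX ≫ f') (g := iX ≫ f')
      (f' := f') (g' := f') ‹IsClosedImmersion iX› ‹IsClosedImmersion iX› rfl rfl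
  have heq : iX ≫ pullback.diagonal f' = pullback.diagonal (iX ≫ f') ≫
      pullback.map (iX ≫ f') (iX ≫ f') f' f' iX iX (𝟙 _) (by simp) (by simp) := by
    apply pullback.hom_ext
    · simp only [Category.assoc, pullback.map, pullback.lift_fst, pullback.diagonal_fst_assoc,
        pullback.diagonal_fst, Category.comp_id]
    · simp only [Category.assoc, pullback.map, pullback.lift_snd, pullback.diagonal_snd_assoc,
        pullback.diagonal_snd, Category.comp_id]
  have : IsClosedImmersion (pullback.diagonal (iX ≫ f')) := IsSeparated.isClosedImmersion_diagonal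
  have : UniversallyClosed (iX ≫ pullback.diagonal f') := by rw [heq]; infer_instance
  have := UniversallyClosed.of_comp_surjective iX (pullback.diagonal f')
  exact ⟨IsClosedImmersion.of_isPreimmersion _ (pullback.diagonal f').isClosedMap.isClosed_range⟩

theorem isFinite_of_thickening [IsClosedImmersion iY] [Surjective iY]
    (hc : IsPullback iX f f' iY) [IsFinite f] [LocallyOfFiniteType f'] : IsFinite f' := by
  have := surjective_fst_of_isPullback hc
  have : IsClosedImmersion iX := MorphismProperty.of_isPullback hc.flip inferInstance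
  have := isSeparated_of_thickening hc
  have : UniversallyClosed (iX ≫ f') := by rw [hc.w]; infer_instance
  have := UniversallyClosed.of_comp_surjective iX f'
  have : IsProper f' := ⟨⟩
  have : LocallyQuasiFinite f' := by
    refine LocallyQuasiFinite.of_fiberToSpecResidueField _ fun y' ↦ ?_
    obtain ⟨y, rfl⟩ := iY.surjective y'
    exact (fiberToSpecResidueField_iff @LocallyQuasiFinite hc y).mp inferInstance
  exact (IsFinite.iff_isProper_and_locallyQuasiFinite f').mpr ⟨inferInstance, inferInstance⟩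

theorem isFinLocFreeOfDeg_of_deform (d : ℕ) [IsClosedImmersion iS] [Surjective iS]
    (hn : IsNilpotent iS.ker) (hcX : IsPullback iX (f ≫ g) (f' ≫ g') iS)
    (hcY : IsPullback iY g g' iS) (w : iX ≫ f' = f ≫ iY) [Flat (f' ≫ g')]
    (hf : Mor2.IsFinLocFreeOfDeg d f) : Mor2.IsFinLocFreeOfDeg d f' := by
  obtain ⟨⟨_, _, _⟩, hd⟩ := hf
  have : IsClosedImmersion iY := MorphismProperty.of_isPullback hcY.flip inferInstance
  have := surjective_fst_of_isPullback hcY
  have := flat_of_deform hn hcX hcY w
  have := locallyOfFinitePresentation_of_deform hn hcX hcY w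
  have := isFinite_of_thickening (isPullback_left_square hcX hcY w)
  refine ⟨⟨inferInstance, inferInstance, inferInstance⟩, fun y' ↦ ?_⟩
  obtain ⟨y, rfl⟩ := iY.surjective y'
  rw [← Scheme.Hom.finrank_of_isPullback iX f f' iY (isPullback_left_square hcX hcY w) y]
  exact hd y

end Groth.Agent.FlatBasics
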