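import Mathlib.AlgebraicGeometry.Morphisms.FormallyUnramified
import Mathlib.AlgebraicGeometry.ResidueField

universe u

open AlgebraicGeometry CategoryTheory Limits

namespace Groth.Agent.FlatBasics

theorem exists_open_eq {X Y S : Scheme.{u}} (p : Y ⟶ S) [FormallyUnramified p] [LocallyOfFiniteType p]
    (f g : X ⟶ Y) (hfg : f ≫ p = g ≫ p) (x : X)
    (h : X.fromSpecResidueField x ≫ f = X.fromSpecResidueField x ≫ g) :
    ∃ U : X.Opens, x ∈ U ∧ U.ι ≫ f = U.ι ≫ g := by
  let d := pullback.diagonal p
  let l : X ⟶ pullback p p := pullback.lift f g hfg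
  refine ⟨l ⁻¹ᵁ d.opensRange, ?_, ?_⟩
  · show l x ∈ Set.range d
    have h' : X.fromSpecResidueField x ≫ l = (X.fromSpecResidueField x ≫ f) ≫ d := by
      apply pullback.hom_ext
      · simp only [l, d, Category.assoc, pullback.diagonal_fst, Category.comp_id]
        erw [pullback.lift_fst]
      · simp only [l, d, Category.assoc, pullback.diagonal_snd, Category.comp_id]
        erw [pullback.lift_snd]
        exact h.symm
    obtain ⟨t⟩ : Nonempty (Spec (X.residueField x)) := inferInstance
    refine ⟨(X.fromSpecResidueField x ≫ f) t, ?_⟩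
    rw [← Scheme.Hom.comp_apply, ← h', Scheme.Hom.comp_apply, Scheme.fromSpecResidueField_apply]
  · have hr : Set.range ((l ⁻¹ᵁ d.opensRange).ι ≫ l) ⊆ Set.range d := by
      rintro _ ⟨y, rfl⟩
      exact y.2
    have e := IsOpenImmersion.lift_fac d ((l ⁻¹ᵁ d.opensRange).ι ≫ l) hr
    have h1 := congrArg (· ≫ pullback.fst p p) e
    have h2 := congrArg (· ≫ pullback.snd p p) e
    simp only [Category.assoc, l, d, pullback.diagonal_fst, pullback.diagonal_snd,
      pullback.lift_fst, pullback.lift_snd, Category.comp_id] at h1 h2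
    exact h1.symm.trans h2

theorem fromSpecResidueField_comp_eq {X Y : Scheme.{u}} (f g : X ⟶ Y) (x : X) (h1 : f x = g x)
    (h2 : f.residueFieldMap x = (Y.residueFieldCongr h1).hom ≫ g.residueFieldMap x) :
    X.fromSpecResidueField x ≫ f = X.fromSpecResidueField x ≫ g := by
  rw [← Scheme.Hom.SpecMap_residueFieldMap_fromSpecResidueField,
    ← Scheme.Hom.SpecMap_residueFieldMap_fromSpecResidueField, h2, Spec.map_comp, Category.assoc,
    Scheme.residueFieldCongr_fromSpecResidueField]

end Groth.Agent.FlatBasics
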