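import Mathlib.RingTheory.LocalRing.ResidueField.Fiber

universe u

namespace Groth.Agent.FlatBasics

variable {R S : Type u} [CommRing R] [CommRing S] [Algebra R S] (p : Ideal R) [p.IsPrime]

theorem comap_map_includeRight (q : Ideal S) [q.IsPrime] [q.LiesOver p] :
    (q.map (Algebra.TensorProduct.includeRight (R := R) (A := p.ResidueField) (B := S)).toRingHom).comap
      (Algebra.TensorProduct.includeRight (R := R) (A := p.ResidueField) (B := S)).toRingHom = q := by
  let Q := PrimeSpectrum.primesOverOrderIsoFiber R S p ⟨q, ‹_›, ‹_›⟩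
  have h : q = Q.1.comap (Algebra.TensorProduct.includeRight (R := R) (A := p.ResidueField) (B := S)).toRingHom := by
    have := congrArg Subtype.val ((PrimeSpectrum.primesOverOrderIsoFiber R S p).symm_apply_apply ⟨q, ‹_›, ‹_›⟩)
    exact this.symm
  rw [h, Ideal.comap_map_comap]

theorem mem_of_one_tmul_mem (q : Ideal S) [q.IsPrime] [q.LiesOver p] {s : S}
    (h : (1 : p.ResidueField) ⊗ₜ[R] s ∈
      q.map (Algebra.TensorProduct.includeRight (R := R) (A := p.ResidueField) (B := S)).toRingHom) :
    s ∈ q := by
  rw [← comap_map_includeRight p q]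
  exact h

end Groth.Agent.FlatBasics
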