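import Mathlib.RingTheory.Etale.Weakly
import Mathlib.RingTheory.Ideal.Pure
import Mathlib.RingTheory.Unramified.Field
import Mathlib.RingTheory.Kaehler.Basic
import Mathlib.LinearAlgebra.TensorProduct.Basis
import Mathlib.FieldTheory.IntermediateField.Adjoin.Basic

universe u

open scoped TensorProduct

namespace Groth.Agent.FlatBasics

theorem formallyUnramified_intermediate {K L : Type u} [Field K] [Field L] [Algebra K L]
    [Algebra.WeaklyEtale K L] (E : Type u) [Field E] [Algebra K E] [Algebra E L]
    [IsScalarTower K E L] : Algebra.FormallyUnramified K E := by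
  let μL : L ⊗[K] L →ₐ[K] L := Algebra.TensorProduct.lmul' K
  let μE : E ⊗[K] E →ₐ[K] E := Algebra.TensorProduct.lmul' K
  let ι : E ⊗[K] E →ₐ[K] L ⊗[K] L := Algebra.TensorProduct.map (IsScalarTower.toAlgHom K E L) (IsScalarTower.toAlgHom K E L)
  have hμι : ∀ a, μL (ι a) = algebraMap E L (μE a) := by
    intro a
    induction a with
    | zero => simp
    | add x y hx hy => simp [hx, hy]
    | tmul x y => simp [μL, μE, ι]
  haveI hpure : (RingHom.ker μL.toRingHom).Pure := RingHom.flat_algebraMap_iff.mp <| by
    have hF : Function.Surjective μL := fun x => ⟨x ⊗ₜ 1, by simp [μL]⟩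
    have h : Ideal.Quotient.mk (RingHom.ker μL.toRingHom) =
        (RingHom.quotientKerEquivOfSurjective (f := μL.toRingHom) hF).symm.toRingHom.comp μL.toRingHom := by
      refine RingHom.ext fun x => ?_
      exact ((RingHom.quotientKerEquivOfSurjective (f := μL.toRingHom) hF).symm_apply_eq.mpr rfl).symm
    rw [Ideal.Quotient.algebraMap_eq, h]
    exact RingHom.Flat.comp (Algebra.WeaklyEtale.flat_lmul' (R := K) (S := L))
      (RingHom.Flat.of_bijective (RingEquiv.bijective _))
  refine ⟨(Ideal.cotangent_subsingleton_iff _).mpr ?_⟩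
  refine le_antisymm Ideal.mul_le_left fun a ha => ?_
  have haT : ι a ∈ RingHom.ker μL.toRingHom := by
    show μL (ι a) = 0
    rw [hμι, show μE a = 0 from ha]; simp
  obtain ⟨b, hb, hab⟩ := Ideal.exists_eq_mul_of_pure haT
  -- the coefficient functionals
  let B := Module.Basis.ofVectorSpace E L
  let P : _ → _ → (L ⊗[K] L →ₗ[K] E ⊗[K] E) := fun i j =>
    TensorProduct.map ((B.coord i).restrictScalars K) ((B.coord j).restrictScalars K)
  have hP : ∀ i j (c : E ⊗[K] E) (t : L ⊗[K] L), P i j (ι c * t) = c * P i j t := by
    intro i j c t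
    induction c with
    | zero => simp
    | add x y hx hy => simp [add_mul, hx, hy]
    | tmul x y =>
      induction t with
      | zero => simp
      | add u v hu hv => rw [mul_add, map_add, hu, hv, map_add, mul_add]
      | tmul u v =>
        have hB : ∀ (i) (x : E) (u : L), B.coord i (algebraMap E L x * u) = x * B.coord i u := fun i x u => by
          rw [← Algebra.smul_def, map_smul, smul_eq_mul]
        simp only [P, ι, Algebra.TensorProduct.map_tmul, IsScalarTower.coe_toAlgHom',
          Algebra.TensorProduct.tmul_mul_tmul, TensorProduct.map_tmul, LinearMap.restrictScalars_apply, hB]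
  have hker : ∀ i j, a * P i j (1 - b) = 0 := fun i j => by
    rw [← hP, mul_sub, mul_one, ← hab, sub_self, map_zero]
  obtain ⟨i, j, hij⟩ : ∃ i j, μE (P i j (1 - b)) ≠ 0 := by
    by_contra! hne
    let Φ : L ⊗[K] L →ₗ[K] L ⊗[E] L :=
      TensorProduct.lift (((TensorProduct.mk E L L).restrictScalars₁₂ K K))
    have h0 : Φ (1 - b) = 0 := by
      apply (B.tensorProduct B).repr.injective
      ext ⟨i, j⟩
      have key : ∀ t, (B.tensorProduct B).repr (Φ t) (i, j) = μE (P i j t) := by
        intro t
        induction t with
        | zero => simp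
        | add x y hx hy => simp [hx, hy]
        | tmul x y => simp [Φ, P, μE, mul_comm]
      rw [key, hne, map_zero, Finsupp.zero_apply]
    have h1 : ∀ t, Algebra.TensorProduct.lmul' E (S := L) (Φ t) = μL t := by
      intro t
      induction t with
      | zero => simp
      | add x y hx hy => simp [hx, hy]
      | tmul x y => simp [Φ, μL]
    have h2 : μL (1 - b) = 1 := by rw [map_sub, map_one, show μL b = 0 from hb, sub_zero]
    rw [← h1, h0, map_zero] at h2
    exact zero_ne_one h2
  let c := P i j (1 - b) * ((μE (P i j (1 - b)))⁻¹ ⊗ₜ[K] 1)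
  have hc : μE c = 1 := by
    simp only [c, map_mul]
    rw [show μE ((μE (P i j (1 - b)))⁻¹ ⊗ₜ[K] (1 : E)) = (μE (P i j (1 - b)))⁻¹ by simp [μE]]
    exact mul_inv_cancel₀ hij
  have hac : a * c = 0 := by rw [← mul_assoc, hker, zero_mul]
  rw [show a = a * (1 - c) by rw [mul_sub, mul_one, hac, sub_zero]]
  exact Ideal.mul_mem_mul ha (show μE (1 - c) = 0 by rw [map_sub, map_one, hc, sub_self])

theorem isSeparable_algebraMap {K L E : Type u} [Field K] [Field L] [Field E] [Algebra K L]
    [Algebra K E] [Algebra E L] [IsScalarTower K E L] [Algebra.FormallyUnramified K E]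
    [Algebra.EssFiniteType K E] (x : E) : IsSeparable K (algebraMap E L x) := by
  haveI := Algebra.FormallyUnramified.isSeparable K E
  exact IsSeparable.map (IsScalarTower.toAlgHom K E L) (algebraMap E L).injective
    (Algebra.IsSeparable.isSeparable K x)

theorem isSeparable_of_weaklyEtale {K L : Type u} [Field K] [Field L] [Algebra K L]
    [Algebra.WeaklyEtale K L] : Algebra.IsSeparable K L := by
  refine ⟨fun x => ?_⟩
  haveI : Algebra.FormallyUnramified K (IntermediateField.adjoin K ({x} : Set L)) :=
    formallyUnramified_intermediate (L := L) _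
  haveI : Algebra.EssFiniteType K (IntermediateField.adjoin K ({x} : Set L)) :=
    IntermediateField.essFiniteType_iff.mpr (IntermediateField.fg_adjoin_finset {x} |> fun h => by simpa using h)
  have h := isSeparable_algebraMap (K := K) (L := L)
    (⟨x, IntermediateField.mem_adjoin_simple_self K x⟩ : IntermediateField.adjoin K ({x} : Set L))
  rwa [IntermediateField.algebraMap_apply] at h

end Groth.Agent.FlatBasics
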