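import Mathlib.RingTheory.Localization.AtPrime.Basic
import Mathlib.RingTheory.Ideal.MinimalPrime.Localization
import Mathlib.RingTheory.Noetherian.Nilpotent

universe u

namespace Groth.Agent.FlatBasics

/-- If `x` lies in all powers of a finitely generated ideal `J` contained in a minimal prime of
`(x)` in a domain, then `x = 0`. -/
theorem eq_zero_of_mem_pow {A : Type u} [CommRing A] [IsDomain A] {x : A} {J P : Ideal A}
    (hJ : J.FG) (hP : P ∈ (Ideal.span {x}).minimalPrimes) (hJP : J ≤ P)
    (hx : ∀ n : ℕ, 1 ≤ n → x ∈ J ^ n) : x = 0 := by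
  haveI := hP.1.1
  let B := Localization.AtPrime P
  have hrad : J.map (algebraMap A B) ≤ (Ideal.span {algebraMap A B x}).radical := by
    rw [Ideal.radical_eq_sInf]
    refine le_sInf fun Q ⟨hQ, hQp⟩ => Ideal.map_le_iff_le_comap.mpr ?_
    have h1 : Ideal.span {x} ≤ Q.comap (algebraMap A B) :=
      (Ideal.span_singleton_le_iff_mem _).mpr (hQ (Ideal.mem_span_singleton_self _))
    have h2 : Q.comap (algebraMap A B) ≤ P := by
      refine (Ideal.comap_mono (IsLocalRing.le_maximalIdeal hQp.ne_top)).trans_eq ?_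
      exact (IsLocalization.AtPrime.comap_maximalIdeal B P)
    exact hJP.trans (hP.2 ⟨Ideal.IsPrime.comap _, h1⟩ h2)
  obtain ⟨n, hn⟩ := Ideal.exists_pow_le_of_le_radical_of_fg hrad (hJ.map _)
  have h3 : algebraMap A B x ∈ Ideal.span {algebraMap A B x} * J.map (algebraMap A B) := by
    refine Ideal.mul_mono_left hn ?_
    rw [← pow_succ, ← Ideal.map_pow]
    exact Ideal.mem_map_of_mem _ (hx (n + 1) (by omega))
  obtain ⟨z, hz, hxz⟩ := Ideal.mem_span_singleton_mul.mp h3
  have hne : z ≠ 1 := fun h => by
    have : J.map (algebraMap A B) ≤ IsLocalRing.maximalIdeal B := by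
      rw [← Localization.AtPrime.map_eq_maximalIdeal]
      exact Ideal.map_mono hJP
    exact (IsLocalRing.maximalIdeal B).ne_top_iff_one.mp (Ideal.IsMaximal.ne_top inferInstance) (h ▸ this hz)
  haveI : IsDomain B := IsLocalization.isDomain_localization P.primeCompl_le_nonZeroDivisors
  by_contra h0
  refine hne (mul_left_cancel₀ ?_ (hxz.trans (mul_one _).symm))
  exact (map_ne_zero_iff _ (IsLocalization.injective B P.primeCompl_le_nonZeroDivisors)).mpr h0

end Groth.Agent.FlatBasics
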