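import Mathlib.RingTheory.Localization.Finiteness
import Mathlib.RingTheory.Ideal.GoingUp
import Mathlib.RingTheory.Localization.AtPrime.Basic
import Mathlib.RingTheory.Localization.Module

/-!
# Finite algebras with a single prime over a prime of the base
-/

universe u

namespace Groth.Agent.FlatBasics

theorem finite_localization_of_unique_prime {A B : Type u} [CommRing A] [CommRing B] [Algebra A B]
    [Module.Finite A B] (p : Ideal A) [p.IsPrime] (q : Ideal B) [q.IsPrime] [q.LiesOver p]
    (huniq : ∀ P : Ideal B, P.IsPrime → P.comap (algebraMap A B) = p → P = q) :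
    letI := Localization.AtPrime.algebraOfLiesOver p q
    Module.Finite (Localization.AtPrime p) (Localization.AtPrime q) := by
  let := Localization.AtPrime.algebraOfLiesOver p q
  let M := Algebra.algebraMapSubmonoid B p.primeCompl
  have hle : M ≤ q.primeCompl := by
    rintro _ ⟨a, ha, rfl⟩ h
    exact ha ((Ideal.over_def q p).symm ▸ h)
  have hdvd : ∀ s ∈ q.primeCompl, ∃ m ∈ M, s ∣ m := by
    intro s hs
    by_contra hno
    push Not at hno
    have hdis : Disjoint ((Ideal.span {s} : Ideal B) : Set B) (M : Set B) :=
      Set.disjoint_left.mpr fun x hx hm ↦ hno x hm (Ideal.mem_span_singleton.mp hx)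
    obtain ⟨P, hP, hsP, hdisP⟩ := Ideal.exists_le_prime_disjoint _ M hdis
    have hcomap : P.comap (algebraMap A B) ≤ p := fun a ha ↦ by
      by_contra h
      exact Set.disjoint_left.mp hdisP ha ⟨a, h, rfl⟩
    obtain ⟨Q, hPQ, hQ, hQp⟩ := Ideal.exists_ideal_over_prime_of_isIntegral p P hcomap
    exact hs (huniq Q hQ hQp ▸ hPQ (hsP (Ideal.mem_span_singleton_self s)))
  have : IsLocalization q.primeCompl (Localization M) :=
    IsLocalization.of_le_of_exists_dvd M q.primeCompl hle hdvd
  have : IsLocalization M (Localization.AtPrime q) :=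
    IsLocalization.isLocalization_of_algEquiv M
      (IsLocalization.algEquiv q.primeCompl (Localization M) (Localization.AtPrime q))
  exact Module.Finite.of_isLocalizedModule p.primeCompl
    (IsScalarTower.toAlgHom A B (Localization.AtPrime q)).toLinearMap

end Groth.Agent.FlatBasics
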