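import Mathlib.RingTheory.Nilpotent.Basic
import Mathlib.RingTheory.Ideal.Operations

/-!
# Surjectivity modulo the square of a nilpotent ideal
-/

universe u

namespace Groth.Agent.FlatBasics

theorem surjective_of_sup_sq {A B : Type u} [CommRing A] [CommRing B] (φ : A →+* B) (I : Ideal B)
    (hI : IsNilpotent I) (h : ∀ b : B, ∃ a, b - φ a ∈ I ^ 2) : Function.Surjective φ := by
  have hstep : ∀ k : ℕ, ∀ x ∈ I ^ k, ∃ a, x - φ a ∈ I ^ (k + 1) ∧ φ a ∈ I ^ k := by
    intro k
    induction k with
    | zero =>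
      intro x _
      obtain ⟨a, ha⟩ := h x
      exact ⟨a, Ideal.pow_le_pow_right (by omega) ha, by simp⟩
    | succ k ih =>
      intro x hx
      rw [pow_succ] at hx
      induction hx using Submodule.mul_induction_on' with
      | mem_mul_mem y hy z hz =>
        obtain ⟨a, ha, ha'⟩ := ih y hy
        obtain ⟨c, hc⟩ := h z
        have hcI : φ c ∈ I := by
          simpa using I.sub_mem hz (Ideal.pow_le_self two_ne_zero hc)
        refine ⟨a * c, ?_, ?_⟩
        · have : y * z - φ (a * c) = (y - φ a) * z + φ a * (z - φ c) := by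
            rw [map_mul]; ring
          rw [this]
          refine add_mem ?_ ?_
          · rw [pow_succ I (k + 1)]; exact Ideal.mul_mem_mul ha hz
          · rw [show k + 1 + 1 = k + 2 by omega, pow_add]; exact Ideal.mul_mem_mul ha' hc
        · rw [map_mul, pow_succ]; exact Ideal.mul_mem_mul ha' hcI
      | add y hy z hz ihy ihz =>
        obtain ⟨a, ha, ha'⟩ := ihy
        obtain ⟨c, hc, hc'⟩ := ihz
        refine ⟨a + c, ?_, by rw [map_add]; exact add_mem ha' hc'⟩
        rw [map_add, add_sub_add_comm]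
        exact add_mem ha hc
  intro b
  have key : ∀ n : ℕ, ∃ a, b - φ a ∈ I ^ n := by
    intro n
    induction n with
    | zero => exact ⟨0, by simp⟩
    | succ n ih =>
      obtain ⟨a, ha⟩ := ih
      obtain ⟨c, hc, -⟩ := hstep n _ ha
      exact ⟨a + c, by rwa [map_add, ← sub_sub]⟩
  obtain ⟨n, hn⟩ := hI
  obtain ⟨a, ha⟩ := key n
  rw [hn] at ha
  exact ⟨a, (sub_eq_zero.mp (by simpa using ha)).symm⟩

end Groth.Agent.FlatBasics
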