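import Mathlib.AlgebraicGeometry.Morphisms.WeaklyEtale
import Mathlib.AlgebraicGeometry.Morphisms.Flat
import Mathlib.AlgebraicGeometry.Morphisms.FormallyUnramified
import Mathlib.RingTheory.Ideal.Pure

universe u

open AlgebraicGeometry CategoryTheory Limits

namespace Groth.Agent.FlatBasics

set_option backward.isDefEq.respectTransparency.types false in
theorem formallyUnramified_of_flat_diagonal {X Y : Scheme.{u}} (f : X ⟶ Y) [Flat (pullback.diagonal f)] :
    FormallyUnramified f := by
  wlog hY : ∃ R, Y = Spec R
  · rw [IsZariskiLocalAtTarget.iff_of_openCover (P := @FormallyUnramified) Y.affineCover]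
    intro i
    have inst : Flat (pullback.diagonal (pullback.snd f (Y.affineCover.f i))) :=
      MorphismProperty.pullback_snd (P := .diagonal @Flat) _ _ ‹_›
    exact this (pullback.snd _ _) ⟨_, rfl⟩
  obtain ⟨R, rfl⟩ := hY
  wlog hX : ∃ S, X = Spec S generalizing X
  · rw [IsZariskiLocalAtSource.iff_of_openCover (P := @FormallyUnramified) X.affineCover]
    intro i
    have inst : Flat (pullback.diagonal (X.affineCover.f i ≫ f)) :=
      MorphismProperty.comp_mem (.diagonal @Flat) _ _
        (show Flat (pullback.diagonal (X.affineCover.f i)) from inferInstance) ‹_›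
    exact this (_ ≫ _) ⟨_, rfl⟩
  obtain ⟨S, rfl⟩ := hX
  obtain ⟨φ, rfl : Spec.map φ = f⟩ := Spec.homEquiv.symm.surjective f
  rw [HasRingHomProperty.Spec_iff (P := @FormallyUnramified)]
  algebraize [φ.hom]
  let F := (Algebra.TensorProduct.lmul' R (S := S)).toRingHom
  have hF : Function.Surjective F := fun x ↦ ⟨.mk _ _ _ x 1, by simp [F]⟩
  have hflat : Flat (Spec.map (CommRingCat.ofHom F)) := by
    rwa [← MorphismProperty.cancel_right_of_respectsIso (P := @Flat) _
      (pullbackSpecIso R S S).inv, ← AlgebraicGeometry.diagonal_SpecMap R S]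
  rw [HasRingHomProperty.Spec_iff (P := @Flat)] at hflat
  haveI : (RingHom.ker F).Pure := RingHom.flat_algebraMap_iff.mp <| by
    have h : Ideal.Quotient.mk (RingHom.ker F) = (RingHom.quotientKerEquivOfSurjective hF).symm.toRingHom.comp F := by
      refine RingHom.ext fun x => ?_
      simp [RingHom.quotientKerEquivOfSurjective, RingHom.quotientKerEquivOfRightInverse]
      exact ((RingHom.quotientKerEquivOfSurjective hF).symm_apply_eq.mpr rfl).symm
    rw [Ideal.Quotient.algebraMap_eq, h]
    exact RingHom.Flat.comp hflat (RingHom.Flat.of_bijective (RingEquiv.bijective _))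
  refine ⟨(Ideal.cotangent_subsingleton_iff _).mpr ?_⟩
  exact Ideal.isIdempotentElem_of_pure (RingHom.ker F)

theorem formallyUnramified_of_weaklyEtale {X Y : Scheme.{u}} (f : X ⟶ Y) [WeaklyEtale f] :
    FormallyUnramified f := formallyUnramified_of_flat_diagonal f

end Groth.Agent.FlatBasics
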